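import Mathlib.RingTheory.Localization.AtPrime.Basic
import Mathlib.RingTheory.Localization.Integral
import Mathlib.RingTheory.IntegralClosure.IntegrallyClosed
import Mathlib.RingTheory.Valuation.ValuationRing
import Mathlib.RingTheory.Ideal.Quotient.Operations

/-!
# Localizations of products of domains

For a prime `P` of a product of domains `R i`, the subsets `S` of the index set whose indicator is not in `P` form an
ultrafilter, and the localization at `P` embeds into the ultraproduct of the fraction fields.
-/

set_option autoImplicit false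
universe u v w

namespace K774.Prod

open scoped Classical in
/-- The indicator of a set of indices. -/
noncomputable def ind {ι : Type u} (R : ι → Type v) [∀ i, CommRing (R i)] (s : Set ι) : ∀ i, R i :=
  fun i => if i ∈ s then 1 else 0

variable {ι : Type u} {R : ι → Type v} [∀ i, CommRing (R i)]

theorem ind_mem {s : Set ι} {i : ι} (h : i ∈ s) : ind R s i = 1 := by
  simp [ind, h]

theorem ind_notMem {s : Set ι} {i : ι} (h : i ∉ s) : ind R s i = 0 := by
  simp [ind, h]

theorem ind_mul (s t : Set ι) : ind R s * ind R t = ind R (s ∩ t) := by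
  ext i
  by_cases h1 : i ∈ s <;> by_cases h2 : i ∈ t <;>
    simp [ind, h1, h2]

variable (P : Ideal (∀ i, R i)) [hP : P.IsPrime]

/-- A set of indices is negligible if its indicator is in `P`. -/
def N (s : Set ι) : Prop := ind R s ∈ P

variable {P}

omit hP in
theorem N_mono {s t : Set ι} (h : s ⊆ t) (ht : N P t) : N P s := by
  unfold N at *
  have : ind R s = ind R s * ind R t := by
    rw [ind_mul, Set.inter_eq_left.2 h]
  rw [this]
  exact P.mul_mem_left _ ht

omit hP in
theorem N_union {s t : Set ι} (hs : N P s) (ht : N P t) : N P (s ∪ t) := by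
  unfold N at *
  have : ind R (s ∪ t) = ind R s + ind R t - ind R s * ind R t := by
    ext i
    by_cases h1 : i ∈ s <;> by_cases h2 : i ∈ t <;>
      simp [ind, h1, h2]
  rw [this]
  exact P.sub_mem (P.add_mem hs ht) (P.mul_mem_left _ ht)

omit hP in
theorem N_empty : N P ∅ := by
  unfold N
  have : ind R (∅ : Set ι) = 0 := by ext i; simp [ind]
  rw [this]; exact P.zero_mem

theorem not_N_univ : ¬ N P Set.univ := by
  unfold N
  have : ind R (Set.univ : Set ι) = 1 := by ext i; simp [ind]
  rw [this]; exact fun h => hP.ne_top ((Ideal.eq_top_iff_one P).2 h)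

theorem N_or_compl (s : Set ι) : N P s ∨ N P sᶜ := by
  apply hP.mem_or_mem
  rw [ind_mul, Set.inter_compl_self]
  exact N_empty

theorem not_N_compl {s : Set ι} (h : ¬ N P s) : N P sᶜ := (N_or_compl s).resolve_left h

theorem not_N_of_N_compl {s : Set ι} (h : N P sᶜ) : ¬ N P s := fun h' => by
  have := N_union h' h
  rw [Set.union_compl_self] at this
  exact not_N_univ this

/-- An element which is not in `P` is nonzero on a non-negligible set. -/
theorem not_N_of_notMem {u : ∀ i, R i} (h : u ∉ P) : N P {i | u i = 0} := by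
  apply (N_or_compl _).resolve_right
  intro h'
  apply h
  have : u = u * ind R {i | u i = 0}ᶜ := by
    ext i
    by_cases h1 : u i = 0
    · simp [h1]
    · rw [Pi.mul_apply, ind_mem, mul_one]
      exact h1
  rw [this]
  exact P.mul_mem_left _ h'

/-- Equality in the localization can be tested outside a negligible set. -/
theorem algebraMap_eq_of_N {a b : ∀ i, R i} (h : N P {i | a i ≠ b i}) :
    algebraMap (∀ i, R i) (Localization.AtPrime P) a = algebraMap (∀ i, R i) (Localization.AtPrime P) b := by
  rw [IsLocalization.eq_iff_exists P.primeCompl]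
  have h1 : ¬ N P {i | a i = b i} := fun h' => by
    have := N_union h h'
    apply not_N_univ (P := P)
    convert this
    ext i
    by_cases h : a i = b i <;> simp [h]
  refine ⟨⟨ind R {i | a i = b i}, h1⟩, ?_⟩
  ext i
  by_cases h2 : a i = b i
  · simp [h2]
  · simp only [Pi.mul_apply]
    rw [ind_notMem (by exact h2), zero_mul, zero_mul]

section Dom

variable [∀ i, IsDomain (R i)]

/-- The product of the fraction fields modulo the ultrafilter. -/
noncomputable def Q (P : Ideal (∀ i, R i)) [hP : P.IsPrime] : Ideal (∀ i, FractionRing (R i)) where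
  carrier := {x | N P {i | x i ≠ 0}}
  add_mem' := by
    intro a b ha hb
    refine N_mono ?_ (N_union ha hb)
    intro i hi
    by_contra hn
    simp only [Set.mem_union, Set.mem_ofPred_eq, not_or, not_not] at hn
    apply hi
    rw [Pi.add_apply, hn.1, hn.2, add_zero]
  zero_mem' := by
    have : {i : ι | (0 : ∀ i, FractionRing (R i)) i ≠ 0} = ∅ := by ext; simp
    show N P {i | (0 : ∀ i, FractionRing (R i)) i ≠ 0}
    rw [this]; exact N_empty
  smul_mem' := by
    intro c x hx
    refine N_mono ?_ hx
    intro i hi h0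
    apply hi
    simp [h0]

theorem mem_Q {x : ∀ i, FractionRing (R i)} : x ∈ Q P ↔ N P {i | x i ≠ 0} := Iff.rfl

/-- The ultraproduct of the fraction fields. -/
abbrev L (P : Ideal (∀ i, R i)) [hP : P.IsPrime] : Type _ := (∀ i, FractionRing (R i)) ⧸ Q P

instance : (Q P).IsMaximal := by
  refine Ideal.Quotient.maximal_of_isField _ ⟨?_, fun x y => mul_comm x y, ?_⟩
  · refine ⟨0, 1, fun h => ?_⟩
    have h1 : (1 : ∀ i, FractionRing (R i)) ∈ Q P := by
      rw [← Ideal.Quotient.eq_zero_iff_mem, map_one]; exact h.symm
    rw [mem_Q] at h1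
    apply not_N_univ (P := P)
    convert h1
    ext i; simp
  · intro x hx
    obtain ⟨x, rfl⟩ := Ideal.Quotient.mk_surjective x
    have hx' : ¬ N P {i | x i ≠ 0} := fun h => hx (Ideal.Quotient.eq_zero_iff_mem.2 h)
    refine ⟨Ideal.Quotient.mk _ (fun i => (x i)⁻¹), ?_⟩
    rw [← map_mul, ← map_one (Ideal.Quotient.mk (Q P)), Ideal.Quotient.eq, mem_Q]
    refine N_mono ?_ (not_N_compl hx')
    intro i hi
    by_contra hn
    simp only [Set.mem_compl_iff, Set.mem_ofPred_eq, not_not] at hn
    apply hi
    simp [mul_inv_cancel₀ hn]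

noncomputable instance : Field (L P) := Ideal.Quotient.field _

theorem algebraMap_L (a : ∀ i, R i) :
    algebraMap (∀ i, R i) (L P) a = Ideal.Quotient.mk (Q P) (fun i => algebraMap (R i) (FractionRing (R i)) (a i)) := rfl

theorem isUnit_of_notMem {u : ∀ i, R i} (h : u ∉ P) : IsUnit (algebraMap (∀ i, R i) (L P) u) := by
  rw [isUnit_iff_ne_zero, algebraMap_L, Ne, Ideal.Quotient.eq_zero_iff_mem, mem_Q]
  intro h'
  have h1 := not_N_of_notMem h
  apply not_N_univ (P := P)
  refine N_mono ?_ (N_union h' h1)
  intro i _
  by_cases hi : u i = 0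
  · exact Or.inr hi
  · refine Or.inl ?_
    show algebraMap (R i) (FractionRing (R i)) (u i) ≠ 0
    intro h0
    exact hi ((IsFractionRing.injective (R i) (FractionRing (R i))) (by rw [h0, map_zero]))

/-- The map from the localization at `P` to the ultraproduct of the fraction fields. -/
noncomputable def toL (P : Ideal (∀ i, R i)) [hP : P.IsPrime] : Localization.AtPrime P →+* L P :=
  IsLocalization.lift (M := P.primeCompl) (g := algebraMap (∀ i, R i) (L P)) (fun u => isUnit_of_notMem u.2)

theorem toL_algebraMap (a : ∀ i, R i) : toL P (algebraMap (∀ i, R i) (Localization.AtPrime P) a) = algebraMap (∀ i, R i) (L P) a :=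
  IsLocalization.lift_eq _ a

theorem toL_injective : Function.Injective (toL P) := by
  rw [injective_iff_map_eq_zero]
  intro x hx
  obtain ⟨a, s, rfl⟩ := IsLocalization.exists_mk'_eq P.primeCompl x
  have h1 : toL P (algebraMap _ _ a) = 0 := by
    rw [← IsLocalization.mk'_spec' (Localization.AtPrime P) a s, map_mul, hx, mul_zero]
  rw [toL_algebraMap, algebraMap_L, Ideal.Quotient.eq_zero_iff_mem, mem_Q] at h1
  have h2 : algebraMap (∀ i, R i) (Localization.AtPrime P) a = algebraMap (∀ i, R i) (Localization.AtPrime P) 0 := by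
    apply algebraMap_eq_of_N
    refine N_mono ?_ h1
    intro i hi
    show algebraMap (R i) (FractionRing (R i)) (a i) ≠ 0
    intro h0
    exact hi ((IsFractionRing.injective (R i) (FractionRing (R i))) (by rw [h0]; simp))
  rw [IsLocalization.mk'_eq_zero_iff]
  rw [IsLocalization.eq_iff_exists P.primeCompl] at h2
  obtain ⟨c, hc⟩ := h2
  exact ⟨c, by simpa using hc⟩

instance isDomain_loc : IsDomain (Localization.AtPrime P) :=
  (toL_injective (P := P)).isDomain

/-- An element of the ultraproduct of the fraction fields which is integral over the product comes from the product if all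
factors are integrally closed. -/
theorem exists_of_isIntegral [∀ i, IsIntegrallyClosed (R i)] (x : L P) (hx : IsIntegral (∀ i, R i) x) :
    ∃ y : ∀ i, R i, algebraMap (∀ i, R i) (L P) y = x := by
  classical
  obtain ⟨x, rfl⟩ := Ideal.Quotient.mk_surjective x
  obtain ⟨p, hp, hpx⟩ := hx
  let q : ∀ i, Polynomial (R i) := fun i => p.map (Pi.evalRingHom R i)
  have hq : ∀ i, (q i).Monic := fun i => hp.map _
  have h1 : N P {i | (q i).eval₂ (algebraMap (R i) (FractionRing (R i))) (x i) ≠ 0} := by
    have h2 : Ideal.Quotient.mk (Q P) (fun i => (q i).eval₂ (algebraMap (R i) (FractionRing (R i))) (x i)) = 0 := by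
      have h3 : (fun i => (q i).eval₂ (algebraMap (R i) (FractionRing (R i))) (x i)) =
          p.eval₂ (algebraMap (∀ i, R i) (∀ i, FractionRing (R i))) x := by
        ext i
        have h4 : p.eval₂ (algebraMap (∀ i, R i) (∀ i, FractionRing (R i))) x i =
          Pi.evalRingHom (fun i => FractionRing (R i)) i (p.eval₂ (algebraMap (∀ i, R i) (∀ i, FractionRing (R i))) x) := rfl
        rw [h4, Polynomial.hom_eval₂]
        simp only [q]
        rw [Polynomial.eval₂_map]
        rfl
      rw [h3, Polynomial.hom_eval₂]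
      exact hpx
    rw [Ideal.Quotient.eq_zero_iff_mem, mem_Q] at h2
    exact h2
  have h5 : ∀ i, ∃ y : R i, (q i).eval₂ (algebraMap (R i) (FractionRing (R i))) (x i) = 0 →
      algebraMap (R i) (FractionRing (R i)) y = x i := by
    intro i
    by_cases h : (q i).eval₂ (algebraMap (R i) (FractionRing (R i))) (x i) = 0
    · obtain ⟨y, hy⟩ := IsIntegrallyClosed.isIntegral_iff.1 (⟨q i, hq i, h⟩ : IsIntegral (R i) (x i))
      exact ⟨y, fun _ => hy⟩
    · exact ⟨0, fun h' => absurd h' h⟩
  choose y hy using h5
  refine ⟨y, ?_⟩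
  rw [algebraMap_L, Ideal.Quotient.eq, mem_Q]
  refine N_mono ?_ h1
  intro i hi h0
  apply hi
  simp [hy i h0]

theorem isIntegrallyClosed_loc [∀ i, IsIntegrallyClosed (R i)] : IsIntegrallyClosed (Localization.AtPrime P) := by
  let _ : Algebra (Localization.AtPrime P) (L P) := (toL P).toAlgebra
  have hst : IsScalarTower (∀ i, R i) (Localization.AtPrime P) (L P) :=
    IsScalarTower.of_algebraMap_eq fun a => (toL_algebraMap a).symm
  have hinj : Function.Injective (algebraMap (Localization.AtPrime P) (L P)) := toL_injective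
  let F := FractionRing (Localization.AtPrime P)
  rw [isIntegrallyClosed_iff F]
  intro x hx
  let g : F →ₐ[Localization.AtPrime P] L P := IsFractionRing.liftAlgHom (g := Algebra.ofId (Localization.AtPrime P) (L P)) hinj
  have hgx : IsIntegral (Localization.AtPrime P) (g x) := hx.map g
  obtain ⟨m, hm⟩ := IsIntegral.exists_multiple_integral_of_isLocalization P.primeCompl (Rₘ := Localization.AtPrime P) (g x) hgx
  obtain ⟨y, hy⟩ := exists_of_isIntegral _ hm
  refine ⟨IsLocalization.mk' _ y m, ?_⟩
  apply g.toRingHom.injective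
  show g _ = g x
  rw [AlgHom.commutes]
  have hmu : IsUnit (algebraMap (∀ i, R i) (L P) m.1) := isUnit_of_notMem m.2
  apply hmu.mul_left_cancel
  rw [IsScalarTower.algebraMap_apply (∀ i, R i) (Localization.AtPrime P) (L P), ← map_mul, IsLocalization.mk'_spec',
    ← IsScalarTower.algebraMap_apply, hy]
  rw [Submonoid.smul_def, Algebra.smul_def]
  rw [IsScalarTower.algebraMap_apply (∀ i, R i) (Localization.AtPrime P) (L P)]

end Dom

theorem preValuationRing_loc [∀ i, PreValuationRing (R i)] : PreValuationRing (Localization.AtPrime P) := by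
  constructor
  intro x y
  obtain ⟨a, s, rfl⟩ := IsLocalization.exists_mk'_eq P.primeCompl x
  obtain ⟨b, t, rfl⟩ := IsLocalization.exists_mk'_eq P.primeCompl y
  -- it suffices to compare `a` and `b`
  have key : ∀ a b : ∀ i, R i, N P {i | a i ∣ b i}ᶜ →
      ∃ c, algebraMap (∀ i, R i) (Localization.AtPrime P) a * c = algebraMap (∀ i, R i) (Localization.AtPrime P) b := by
    intro a b h
    have h5 : ∀ i, ∃ c : R i, a i ∣ b i → a i * c = b i := by
      intro i
      by_cases h : a i ∣ b i
      · obtain ⟨c, hc⟩ := h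
        exact ⟨c, fun _ => hc.symm⟩
      · exact ⟨0, fun h' => absurd h' h⟩
    choose c hc using h5
    refine ⟨algebraMap _ _ c, ?_⟩
    rw [← map_mul]
    apply algebraMap_eq_of_N
    refine N_mono ?_ h
    intro i hi h0
    exact hi (hc i h0)
  have hs : IsUnit (algebraMap (∀ i, R i) (Localization.AtPrime P) s.1) := IsLocalization.map_units _ s
  have ht : IsUnit (algebraMap (∀ i, R i) (Localization.AtPrime P) t.1) := IsLocalization.map_units _ t
  have h1 : IsLocalization.mk' (Localization.AtPrime P) a s * algebraMap (∀ i, R i) (Localization.AtPrime P) s.1 =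
      algebraMap _ _ a := IsLocalization.mk'_spec _ _ _
  have h2 : IsLocalization.mk' (Localization.AtPrime P) b t * algebraMap (∀ i, R i) (Localization.AtPrime P) t.1 =
      algebraMap _ _ b := IsLocalization.mk'_spec _ _ _
  by_cases h : N P {i | a i ∣ b i}
  · obtain ⟨c, hc⟩ := key b a (N_mono (fun i hi => by
      by_contra hn
      simp only [Set.mem_ofPred_eq] at hn
      rcases ValuationRing.dvd_total (a i) (b i) with h' | h'
      · exact hn h'
      · exact hi h') h)
    rw [← h1, ← h2] at hc
    refine ⟨algebraMap _ _ t.1 * c * ↑hs.unit⁻¹, Or.inr ?_⟩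
    have : IsLocalization.mk' (Localization.AtPrime P) b t * (algebraMap _ _ t.1 * c * ↑hs.unit⁻¹) =
      (IsLocalization.mk' (Localization.AtPrime P) b t * algebraMap _ _ t.1 * c) * ↑hs.unit⁻¹ := by ring
    rw [this, hc, mul_assoc, IsUnit.mul_val_inv, mul_one]
  · obtain ⟨c, hc⟩ := key a b (not_N_compl h)
    rw [← h1, ← h2] at hc
    refine ⟨algebraMap _ _ s.1 * c * ↑ht.unit⁻¹, Or.inl ?_⟩
    have : IsLocalization.mk' (Localization.AtPrime P) a s * (algebraMap _ _ s.1 * c * ↑ht.unit⁻¹) =
      (IsLocalization.mk' (Localization.AtPrime P) a s * algebraMap _ _ s.1 * c) * ↑ht.unit⁻¹ := by ring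
    rw [this, hc, mul_assoc, IsUnit.mul_val_inv, mul_one]

end K774.Prod
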